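import Cfsg.Agent.GAL.Nrm.Dg
import Cfsg.Agent.ODD.Defs
import Cfsg.Agent.ClassicalGeometry.PSL2Basic
import Cfsg.Agent.S0813
import Cfsg.Agent.S0814
import Cfsg.Agent.S1157
import Cfsg.Agent.S2127

/-!
# S4617 / S4618, the group side: the exceptional rows in odd characteristic (helper10, GAL)

* `box_psp3`, `box_psl3` : `PSp_{2m}(q)` and `L₂(q)`, `q ≡ ±3 mod 8`, from a moved character and the characters which
  are invariant under a diagonal automorphism;
* `box_ree` : the small Ree groups from a moved character;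
* `OddSide`, `OddSide.box` : the boxes of the families over fields of odd order from the character side.
-/

set_option autoImplicit false

namespace Cfsg.Agent.GAL.Nrm

open Cfsg Cfsg.Lie Subgroup Cfsg.Agent.TAB.Use
open Cfsg.Agent.H158.PronQ Cfsg.Agent.H158.PronMat Cfsg.Agent.H158.PronMono Cfsg.Agent.H158.PronSp
open Cfsg.Agent.H158.PronM2

universe u v

theorem center_eq_bot {S : Type u} [Group S] (h : IsSimpleGroup S) (hc : ¬ IsMulCommutative S) : center S = ⊥ := by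
  rcases h.eq_bot_or_eq_top_of_normal (center S) inferInstance with h1 | h1
  · exact h1
  · exact absurd ⟨⟨fun a b => mem_center_iff.1 (h1 ▸ mem_top b : b ∈ center S) a⟩⟩ hc

theorem mem_center_congr {G : Type u} {H : Type v} [Group G] [Group H] (f : G →* H) (hf : Function.Bijective f)
    (g : G) : f g ∈ center H ↔ g ∈ center G := by
  rw [mem_center_iff, mem_center_iff]
  constructor
  · intro h x
    apply hf.1
    rw [map_mul, map_mul, h]
  · intro h x
    obtain ⟨x, rfl⟩ := hf.2 x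
    rw [← map_mul, ← map_mul, h]

theorem center_congr {G : Type u} {H : Type v} [Group G] [Group H] (e : G ≃* H) (h : center G = ⊥) :
    center H = ⊥ := by
  rw [eq_bot_iff]
  intro x hx
  obtain ⟨x, rfl⟩ := e.surjective x
  have h1 := (mem_center_congr e.toMonoidHom e.bijective x).1 hx
  rw [h, mem_bot] at h1
  rw [h1, map_one]
  exact one_mem _

variable {F : Type u} [Field F] [Fintype F]

/-- `q ≡ ±3 mod 8` is an odd power of an odd prime -/
theorem exists_odd_exp (h8 : Fintype.card F % 8 = 3 ∨ Fintype.card F % 8 = 5) :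
    ∃ p f : ℕ, p.Prime ∧ p ≠ 2 ∧ Odd f ∧ Fintype.card F = p ^ f := by
  obtain ⟨p, hp⟩ := CharP.exists F
  obtain ⟨f, hpp, hf⟩ := FiniteField.card F p
  refine ⟨p, f, hpp, ?_, ?_, hf⟩
  · rintro rfl
    have h1 : 2 ∣ Fintype.card F := by
      rw [hf]
      exact dvd_pow_self 2 f.ne_zero
    omega
  · rw [← Nat.not_even_iff_odd]
    rintro ⟨k, hk⟩
    rw [hk, pow_add] at hf
    generalize p ^ k = a at hf
    have h1 : a % 8 < 8 := Nat.mod_lt _ (by norm_num)
    have h2 : Fintype.card F % 8 = (a % 8 * (a % 8)) % 8 := by rw [hf, Nat.mul_mod]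
    generalize a % 8 = c at h1 h2
    interval_cases c <;> omega

theorem not_four {S : Type v} [Group S] [Finite S] (hZ : center S = ⊥) {f : ℕ} (hf : Odd f)
    (h : Nat.card (MulAut S) = 2 * f * Nat.card S) : ¬ 4 ∣ Nat.card (Out S) := by
  rw [card_out hZ] at h
  rw [Nat.eq_of_mul_eq_mul_right Nat.card_pos h]
  obtain ⟨k, rfl⟩ := hf
  omega

theorem not_four_psp (h8 : Fintype.card F % 8 = 3 ∨ Fintype.card F % 8 = 5) {m : ℕ} (hm : 2 ≤ m)
    (hZ : center (PSp m F) = ⊥) : ¬ 4 ∣ Nat.card (Out (PSp m F)) := by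
  obtain ⟨p, f, hp, hp2, hf, hq⟩ := exists_odd_exp h8
  have := Fact.mk hp
  refine not_four hZ hf ?_
  rw [Cfsg.Agent.S0814.result p f hf.pos hq m hm (fun _ => by omega), if_neg (fun h => hp2 h.2), one_mul]
  congr 2
  exact Nat.gcd_eq_left (by omega)

theorem not_four_psl (h8 : Fintype.card F % 8 = 3 ∨ Fintype.card F % 8 = 5) (h4 : 4 ≤ Fintype.card F)
    (hZ : center (Matrix.ProjectiveSpecialLinearGroup (Fin 2) F) = ⊥) :
    ¬ 4 ∣ Nat.card (Out (Matrix.ProjectiveSpecialLinearGroup (Fin 2) F)) := by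
  obtain ⟨p, f, hp, hp2, hf, hq⟩ := exists_odd_exp h8
  have := Fact.mk hp
  have : Finite (Matrix.ProjectiveSpecialLinearGroup (Fin 2) F) := inferInstanceAs (Finite (_ ⧸ _))
  refine not_four hZ hf ?_
  rw [Cfsg.Agent.S0813.result p f hf.pos hq 2 le_rfl (fun _ => by omega), if_pos rfl, one_mul,
    Cfsg.Agent.ClassicalGeometry.PSL2Basic.card_PGL2,
    ← Cfsg.Agent.ClassicalGeometry.PSL2Basic.card_PSL2_odd F (Nat.odd_iff.2 (by omega))]
  ring

theorem mdl_psp (h8 : Fintype.card F % 8 = 3 ∨ Fintype.card F % 8 = 5) {m : ℕ} (hm : 1 ≤ m) :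
    ∃ (Q : Sylow 2 (PSp m F)) (r : MulAut (PSp m F)), Mdl Q r := by
  have h2 : (2 : F) ≠ 0 := two_ne_of_odd (Nat.odd_iff.2 (by omega))
  have : Nonempty (Fin m) := ⟨⟨0, hm⟩⟩
  obtain ⟨a, b, hab⟩ := exists_sq_add_sq (-1 : F)
  obtain ⟨P, hP, hZ⟩ := mdl_GU (n := Fin m) h2 (fun h => by
    have := FiniteField.isSquare_two_iff.1 h
    omega)
  have hb : Function.Bijective (toSp hab : Cfsg.Agent.H158.PronMat.GU (Fin m) F →* _) :=
    ⟨fun x y h => Subtype.ext (Th_injective hab h2 (congrArg Subtype.val h)), toSp_surjective hab h2⟩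
  refine hP.quot ((QuotientGroup.mk' _).comp (toSp hab)) ((QuotientGroup.mk'_surjective _).comp hb.2) (fun g => ?_) hZ
  rw [MonoidHom.comp_apply, QuotientGroup.mk'_apply, QuotientGroup.eq_one_iff]
  exact mem_center_congr _ hb g

theorem mdl_psl (h8 : Fintype.card F % 8 = 3 ∨ Fintype.card F % 8 = 5) :
    ∃ (Q : Sylow 2 (Matrix.ProjectiveSpecialLinearGroup (Fin 2) F))
      (r : MulAut (Matrix.ProjectiveSpecialLinearGroup (Fin 2) F)), Mdl Q r := by
  have h2 : (2 : F) ≠ 0 := two_ne_of_odd (Nat.odd_iff.2 (by omega))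
  obtain ⟨e⟩ := exists_equivSL (F := F) h2
  obtain ⟨P, hP, hZ⟩ := mdl_GU (n := Fin 1) h2 (fun h => by
    have := FiniteField.isSquare_two_iff.1 h
    omega)
  have hb : Function.Bijective (sc : U F →* Cfsg.Agent.H158.PronMat.GU (Fin 1) F) := by
    constructor
    · intro x y h
      have h1 := congrArg (fun g : Cfsg.Agent.H158.PronMat.GU (Fin 1) F => g.1 0 0) h
      simp only [coe_sc, Matrix.diagonal_apply_eq] at h1
      exact Subtype.ext h1
    · intro g
      have hm : Mono g.1 1 := fun a b hab => absurd (Subsingleton.elim _ _) hab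
      obtain ⟨w, hw⟩ := hm.entry 0
      refine ⟨w, Subtype.ext ?_⟩
      ext1 a b
      rw [Subsingleton.elim a 0, Subsingleton.elim b 0, coe_sc, Matrix.diagonal_apply_eq]
      exact hw
  let e' : Cfsg.Agent.H158.PronMat.GU (Fin 1) F ≃* Matrix.SpecialLinearGroup (Fin 2) F := (MulEquiv.ofBijective _ hb).symm.trans e
  refine hP.quot ((QuotientGroup.mk' _).comp e'.toMonoidHom) ((QuotientGroup.mk'_surjective _).comp e'.surjective)
    (fun g => ?_) hZ
  rw [MonoidHom.comp_apply, QuotientGroup.mk'_apply, QuotientGroup.eq_one_iff]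
  exact mem_center_congr _ e'.bijective g

theorem noC_psp3 (h8 : Fintype.card F % 8 = 3 ∨ Fintype.card F % 8 = 5) {m : ℕ} (hm : 1 ≤ m) : NoC (PSp m F) := by
  obtain ⟨Q, r, h⟩ := mdl_psp h8 hm
  exact h.noC

theorem noC_psl3 (h8 : Fintype.card F % 8 = 3 ∨ Fintype.card F % 8 = 5) :
    NoC (Matrix.ProjectiveSpecialLinearGroup (Fin 2) F) := by
  have : Finite (Matrix.ProjectiveSpecialLinearGroup (Fin 2) F) := inferInstanceAs (Finite (_ ⧸ _))
  obtain ⟨Q, r, h⟩ := mdl_psl h8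
  exact h.noC

/-- **`PSp_{2m}(q)`, `q ≡ ±3 mod 8`** -/
theorem box_psp3 (h8 : Fintype.card F % 8 = 3 ∨ Fintype.card F % 8 = 5) {m : ℕ} (hm : 2 ≤ m)
    (hZ : center (PSp m F) = ⊥) (hM : OddMoved (PSp m F)) {δ : MulAut (PSp m F)}
    (hδ : ∃ k : ℕ, Inner (δ ^ 2 ^ k)) (hF : FD δ) : Box (PSp m F) := by
  obtain ⟨Q, r, h⟩ := mdl_psp h8 (by omega : 1 ≤ m)
  exact h.box hZ (not_four_psp h8 hm hZ) hM hδ hF

/-- **`L₂(q)`, `q ≡ ±3 mod 8`** -/
theorem box_psl3 (h8 : Fintype.card F % 8 = 3 ∨ Fintype.card F % 8 = 5) (h4 : 4 ≤ Fintype.card F)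
    (hZ : center (Matrix.ProjectiveSpecialLinearGroup (Fin 2) F) = ⊥)
    (hM : OddMoved (Matrix.ProjectiveSpecialLinearGroup (Fin 2) F))
    {δ : MulAut (Matrix.ProjectiveSpecialLinearGroup (Fin 2) F)} (hδ : ∃ k : ℕ, Inner (δ ^ 2 ^ k)) (hF : FD δ) :
    Box (Matrix.ProjectiveSpecialLinearGroup (Fin 2) F) := by
  have : Finite (Matrix.ProjectiveSpecialLinearGroup (Fin 2) F) := inferInstanceAs (Finite (_ ⧸ _))
  obtain ⟨Q, r, h⟩ := mdl_psl h8
  exact h.box hZ (not_four_psl h8 h4 hZ) hM hδ hF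

theorem noC_ree {m : ℕ} (hm : 1 ≤ m) (hK : Fintype.card F = 3 ^ (2 * m + 1)) : NoC ↥(twistedG2 F (3 ^ m)) :=
  noC_of_le default (Cfsg.Agent.S1157.result hm hK default).1.le

theorem not_dg_ree {m : ℕ} (hm : 1 ≤ m) (hK : Fintype.card F = 3 ^ (2 * m + 1))
    (Q : Sylow 2 ↥(twistedG2 F (3 ^ m))) : ¬ DG Q := by
  have := fact2
  by_cases h : normalizer ((Q : Subgroup ↥(twistedG2 F (3 ^ m))) : Set ↥(twistedG2 F (3 ^ m))) ≤ Q
  · have h1 := (Cfsg.Agent.S1157.result hm hK Q).2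
    rw [le_antisymm h le_normalizer] at h1
    obtain ⟨k, hk⟩ := IsPGroup.iff_card.1 Q.isPGroup'
    have h2 : 3 ∣ 2 ^ k := by
      rw [← hk, h1]
      norm_num
    exact absurd (Nat.prime_three.dvd_of_dvd_pow h2) (by norm_num)
  · obtain ⟨g, hg, hg'⟩ := SetLike.not_le_iff_exists.1 h
    exact not_dg (noC_ree hm hK) Q hg hg'

/-- **the small Ree groups** -/
theorem box_ree {m : ℕ} (hm : 1 ≤ m) (hK : Fintype.card F = 3 ^ (2 * m + 1))
    (hZ : center ↥(twistedG2 F (3 ^ m)) = ⊥) (hM : OddMoved ↥(twistedG2 F (3 ^ m))) :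
    Box ↥(twistedG2 F (3 ^ m)) :=
  box_of_inner hZ (inner_of_odd (by
      rw [Cfsg.Agent.S2127.result hm hK]
      exact ⟨m, rfl⟩)) default
    ⟨fun h => absurd h (not_dg_ree hm hK _), fun h => absurd h ((noC_ree hm hK).not_fg hM)⟩

theorem card_out_congr {S : Type u} {T : Type v} [Group S] [Group T] [Finite S] (e : S ≃* T) (hZ : center S = ⊥) :
    Nat.card (Out S) = Nat.card (Out T) := by
  have : Finite T := Finite.of_equiv _ e.toEquiv
  have h1 := card_out hZ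
  rw [Nat.card_congr (MulAut.congr e).toEquiv, card_out (center_congr e hZ), Nat.card_congr e.toEquiv] at h1
  exact (Nat.eq_of_mul_eq_mul_right Nat.card_pos h1).symm

theorem Mdl.congr {S : Type u} {T : Type v} [Group S] [Group T] [Finite S] (e : S ≃* T) (hZ : center S = ⊥)
    {Q : Sylow 2 T} {r : MulAut T} (h : Mdl Q r) : ∃ (Q' : Sylow 2 S) (r' : MulAut S), Mdl Q' r' := by
  have : Finite T := Finite.of_equiv _ e.toEquiv
  have h1 := center_congr e hZ
  refine h.quot e.symm.toMonoidHom e.symm.surjective (fun g => ?_) (by rw [h1]; exact bot_le)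
  rw [h1, mem_bot]
  exact map_eq_one_iff e.symm e.symm.injective

/-- the character side in the exceptional situation: a moved character of odd degree, and an automorphism `δ` of
2-power order modulo inner automorphisms such that the `δ`-invariant characters are fixed -/
def Exc (S : Type u) [Group S] : Prop :=
  OddMoved S ∧ ∃ δ : MulAut S, (∃ k : ℕ, Inner (δ ^ 2 ^ k)) ∧ FD δ

/-- `PSL_n(q)`, `q` odd, `q ≡ ±1 mod 8` if `n = 2` -/
def Psl1 (S : Type) [Group S] : Prop :=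
  ∃ (F : Type) (_ : Field F) (_ : Fintype F) (n : ℕ), Odd (Fintype.card F) ∧ 2 ≤ n ∧
    (n = 2 → Fintype.card F % 8 = 1 ∨ Fintype.card F % 8 = 7) ∧
    Nonempty (S ≃* Matrix.ProjectiveSpecialLinearGroup (Fin n) F)

/-- `L₂(q)`, `q ≡ ±3 mod 8` -/
def Psl3 (S : Type) [Group S] : Prop :=
  ∃ (F : Type) (_ : Field F) (_ : Fintype F), (Fintype.card F % 8 = 3 ∨ Fintype.card F % 8 = 5) ∧
    4 ≤ Fintype.card F ∧ Nonempty (S ≃* Matrix.ProjectiveSpecialLinearGroup (Fin 2) F)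

/-- `PSp_{2m}(q)`, `q ≡ ±1 mod 8` -/
def Psp1 (S : Type) [Group S] : Prop :=
  ∃ (F : Type) (_ : Field F) (_ : Fintype F) (m : ℕ), (Fintype.card F % 8 = 1 ∨ Fintype.card F % 8 = 7) ∧
    2 ≤ m ∧ Nonempty (S ≃* PSp m F)

/-- `PSp_{2m}(q)`, `q ≡ ±3 mod 8` -/
def Psp3 (S : Type) [Group S] : Prop :=
  ∃ (F : Type) (_ : Field F) (_ : Fintype F) (m : ℕ), (Fintype.card F % 8 = 3 ∨ Fintype.card F % 8 = 5) ∧
    2 ≤ m ∧ Nonempty (S ≃* PSp m F)

section families

open Cfsg.Agent.ODD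

variable {S : Type} [Group S]

theorem psl_cases (h : PslO S) : Psl1 S ∨ Psl3 S := by
  obtain ⟨F, _, _, n, hodd, hn, h4, ⟨e⟩⟩ := h
  by_cases h2 : n = 2 → Fintype.card F % 8 = 1 ∨ Fintype.card F % 8 = 7
  · exact .inl ⟨F, inferInstance, inferInstance, n, hodd, hn, h2, ⟨e⟩⟩
  · obtain ⟨rfl, h3⟩ := Classical.not_imp.1 h2
    have h5 := Nat.odd_iff.1 hodd
    exact .inr ⟨F, inferInstance, inferInstance, by omega, h4 rfl, ⟨e⟩⟩

theorem psp_cases (h : PspO S) : Psp1 S ∨ Psp3 S := by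
  obtain ⟨F, _, _, m, hodd, hm, ⟨e⟩⟩ := h
  have h5 := Nat.odd_iff.1 hodd
  by_cases h2 : Fintype.card F % 8 = 1 ∨ Fintype.card F % 8 = 7
  · exact .inl ⟨F, inferInstance, inferInstance, m, h2, hm, ⟨e⟩⟩
  · exact .inr ⟨F, inferInstance, inferInstance, m, by omega, hm, ⟨e⟩⟩

variable [Finite S]

theorem dg_psl1 (h : Psl1 S) : AllDG S := by
  obtain ⟨F, _, _, n, hodd, hn, h2, ⟨e⟩⟩ := h
  exact (dg_psl hodd hn h2).congr e

theorem dg_psp1 (h : Psp1 S) : AllDG S := by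
  obtain ⟨F, _, _, m, h2, -, ⟨e⟩⟩ := h
  exact (dg_psp h2 m).congr e

theorem dg_psuO (h : PsuO S) : AllDG S := by
  obtain ⟨F, _, _, n, q, hodd, hq, hn, ⟨e⟩⟩ := h
  exact (dg_psu hodd hq hn).congr e

theorem dg_poddO (h : IsPOmegaOdd S) : AllDG S := by
  obtain ⟨F, _, _, m, hm, hodd, ⟨e⟩⟩ := h
  exact (dg_podd hodd hm).congr e

theorem dg_plusO (h : PlusO S) : AllDG S := by
  obtain ⟨F, _, _, m, hodd, hm, ⟨e⟩⟩ := h
  exact (dg_plus hodd hm).congr e

theorem dg_minusO (h : MinusO S) : AllDG S := by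
  obtain ⟨F, _, _, m, a, b, hodd, hm, hab, ⟨e⟩⟩ := h
  exact (dg_minus hodd hm hab).congr e

theorem dg_g2O (h : ChevO chevG2 S) : AllDG S := by
  obtain ⟨F, _, _, hodd, ⟨e⟩⟩ := h
  exact (dg_G2 hodd).congr e

theorem dg_f4O (h : ChevO chevF4 S) : AllDG S := by
  obtain ⟨F, _, _, hodd, ⟨e⟩⟩ := h
  exact (dg_F4 hodd).congr e

theorem dg_e6O (h : ChevO chevE6 S) : AllDG S := by
  obtain ⟨F, _, _, hodd, ⟨e⟩⟩ := h
  exact (dg_E6 hodd).congr e

theorem dg_e7O (h : ChevO chevE7 S) : AllDG S := by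
  obtain ⟨F, _, _, hodd, ⟨e⟩⟩ := h
  exact (dg_E7 hodd).congr e

theorem dg_e8O (h : ChevO chevE8 S) : AllDG S := by
  obtain ⟨F, _, _, hodd, ⟨e⟩⟩ := h
  exact (dg_E8 hodd).congr e

theorem dg_twE6O (h : TwE6O S) : AllDG S := by
  obtain ⟨F, _, _, q, hodd, -, hq, ⟨e⟩⟩ := h
  exact (dg_2E6 hodd hq).congr e

theorem dg_twD4O (h : TwD4O S) : AllDG S := by
  obtain ⟨F, _, _, q, hodd, -, hq, ⟨e⟩⟩ := h
  exact (dg_3D4 hodd hq).congr e

theorem AllDG.box (h : AllDG S) (hF : FG S) : Box S := box_of_dg default (h default) hF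

theorem box_psl3O (hZ : center S = ⊥) (h : Psl3 S) (hE : Exc S) : Box S := by
  obtain ⟨F, _, _, h8, h4, ⟨e⟩⟩ := h
  obtain ⟨hM, δ, hδ, hF⟩ := hE
  obtain ⟨Q, r, h⟩ := mdl_psl h8
  obtain ⟨Q', r', h'⟩ := h.congr e hZ
  refine h'.box hZ ?_ hM hδ hF
  rw [card_out_congr e hZ]
  exact not_four_psl h8 h4 (center_congr e hZ)

theorem box_psp3O (hZ : center S = ⊥) (h : Psp3 S) (hE : Exc S) : Box S := by
  obtain ⟨F, _, _, m, h8, hm, ⟨e⟩⟩ := h
  obtain ⟨hM, δ, hδ, hF⟩ := hE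
  obtain ⟨Q, r, h⟩ := mdl_psp h8 (by omega : 1 ≤ m)
  obtain ⟨Q', r', h'⟩ := h.congr e hZ
  refine h'.box hZ ?_ hM hδ hF
  rw [card_out_congr e hZ]
  exact not_four_psp h8 hm (center_congr e hZ)

theorem box_reeO (hZ : center S = ⊥) (h : IsoRee S) (hM : OddMoved S) : Box S := by
  obtain ⟨F, _, _, m, hm, hK, ⟨e⟩⟩ := h
  refine box_of_inner hZ (inner_of_odd ?_) default ⟨fun h => ?_, fun h => ?_⟩
  · rw [card_out_congr e hZ, Cfsg.Agent.S2127.result hm hK]
    exact ⟨m, rfl⟩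
  · exact absurd ((allDG_of _ h).congr e.symm default) (not_dg_ree hm hK _)
  · exact absurd h (((noC_ree hm hK).congr e).not_fg hM)

end families

/-- the simple groups of the family `K` have the property `P` -/
def RowP (K P : Cfsg.Agent.ODD.Fam) : Prop :=
  ∀ (S : Type) [Group S] [Finite S] [IsSimpleGroup S], K S → P S

open Cfsg.Agent.ODD in
/-- **the character side in odd characteristic** -/
structure OddSide : Prop where
  psl1 : RowP Psl1 fun S _ => FG S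
  psl3 : RowP Psl3 fun S _ => Exc S
  psp1 : RowP Psp1 fun S _ => FG S
  psp3 : RowP Psp3 fun S _ => Exc S
  psu : RowP PsuO fun S _ => FG S
  podd : RowP (fun S _ => IsPOmegaOdd S) fun S _ => FG S
  plus : RowP PlusO fun S _ => FG S
  minus : RowP MinusO fun S _ => FG S
  g2 : RowP (ChevO chevG2) fun S _ => FG S
  f4 : RowP (ChevO chevF4) fun S _ => FG S
  e6 : RowP (ChevO chevE6) fun S _ => FG S
  e7 : RowP (ChevO chevE7) fun S _ => FG S
  e8 : RowP (ChevO chevE8) fun S _ => FG S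
  tw : RowP TwE6O fun S _ => FG S
  d4 : RowP TwD4O fun S _ => FG S
  ree : RowP (fun S _ => IsoRee S) fun S _ => OddMoved S

open Cfsg.Agent.ODD in
/-- **the boxes in odd characteristic** -/
theorem OddSide.box (H : OddSide) {S : Type} [Group S] [Finite S] [hs : IsSimpleGroup S] (hc : ¬ IsMulCommutative S)
    (h : PslO S ∨ PspO S ∨ PsuO S ∨ IsPOmegaOdd S ∨ PlusO S ∨ MinusO S ∨ ChevO chevG2 S ∨ ChevO chevF4 S ∨
      ChevO chevE6 S ∨ ChevO chevE7 S ∨ ChevO chevE8 S ∨ TwE6O S ∨ TwD4O S ∨ IsoRee S) : Box S := by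
  have hZ := center_eq_bot hs hc
  rcases h with h | h | h | h | h | h | h | h | h | h | h | h | h | h
  · rcases psl_cases h with h | h
    · exact (dg_psl1 h).box (H.psl1 S h)
    · exact box_psl3O hZ h (H.psl3 S h)
  · rcases psp_cases h with h | h
    · exact (dg_psp1 h).box (H.psp1 S h)
    · exact box_psp3O hZ h (H.psp3 S h)
  · exact (dg_psuO h).box (H.psu S h)
  · exact (dg_poddO h).box (H.podd S h)
  · exact (dg_plusO h).box (H.plus S h)
  · exact (dg_minusO h).box (H.minus S h)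
  · exact (dg_g2O h).box (H.g2 S h)
  · exact (dg_f4O h).box (H.f4 S h)
  · exact (dg_e6O h).box (H.e6 S h)
  · exact (dg_e7O h).box (H.e7 S h)
  · exact (dg_e8O h).box (H.e8 S h)
  · exact (dg_twE6O h).box (H.tw S h)
  · exact (dg_twD4O h).box (H.d4 S h)
  · exact box_reeO hZ h (H.ree S h)

end Cfsg.Agent.GAL.Nrm
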