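import Cfsg.Agent.GAL.Nrm.Exc
import Cfsg.Agent.GAL.Rows

/-!
# S4617 / S4618: `BoxOdd` from the character side (helper10, GAL)
-/

set_option autoImplicit false

namespace Cfsg.Agent.GAL.Nrm

open Cfsg Cfsg.Lie Subgroup Cfsg.Agent.TAB.Use Cfsg.Agent.H601.K4 Cfsg.Agent.ODD

universe u v

/-- `σ` acts as `δ` on the characters of odd degree -/
theorem fd_of_map {S : Type u} [Group S] {δ : MulAut S}
    (h : ∀ θ : S → ℂ, OddIrr θ → InB0 θ → ∀ σ, Sig σ → ∀ s, θ (δ s) = σ (θ s)) : FD δ :=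
  fun θ h1 h2 h3 σ hσ s => (h θ h1 h2 σ hσ s).symm.trans (h3 s)

theorem fg_of_map {S : Type u} [Group S] {δ : MulAut S} (hδ : Inner δ)
    (h : ∀ θ : S → ℂ, OddIrr θ → InB0 θ → ∀ σ, Sig σ → ∀ s, θ (δ s) = σ (θ s)) : FG S :=
  (fd_of_map h).fg hδ

theorem not_comm_of {S : Type u} {T : Type v} [Group S] [Group T] (e : S ≃* T) {Q : Sylow 2 T} (h : ¬ DG Q) :
    ¬ IsMulCommutative S := by
  intro hc
  refine h fun y _ _ => mem_centralizer_iff.2 fun x _ => ?_
  obtain ⟨x, rfl⟩ := e.surjective x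
  obtain ⟨y, rfl⟩ := e.surjective y
  rw [← map_mul, ← map_mul, hc.is_comm.comm]

variable {S : Type} [Group S] [Finite S]

theorem Psl3.not_comm (h : Psl3 S) : ¬ IsMulCommutative S := by
  obtain ⟨F, _, _, h8, -, ⟨e⟩⟩ := h
  have : Finite (Matrix.ProjectiveSpecialLinearGroup (Fin 2) F) := Finite.of_equiv _ e.toEquiv
  obtain ⟨Q, r, h⟩ := mdl_psl h8
  exact not_comm_of e (h.not_dg Q)

theorem Psp3.not_comm (h : Psp3 S) : ¬ IsMulCommutative S := by
  obtain ⟨F, _, _, m, h8, hm, ⟨e⟩⟩ := h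
  obtain ⟨Q, r, h⟩ := mdl_psp h8 (by omega : 1 ≤ m)
  exact not_comm_of e (h.not_dg Q)

theorem ree_not_comm (h : IsoRee S) : ¬ IsMulCommutative S := by
  obtain ⟨F, _, _, m, hm, hK, ⟨e⟩⟩ := h
  exact not_comm_of e (not_dg_ree hm hK default)

theorem rowG_psl (h1 : RowP Psl1 fun S _ => FG S) (h3 : RowP Psl3 fun S _ => Exc S) : RowG PslO := by
  intro S _ _ hs h
  rcases psl_cases h with h | h
  · exact (dg_psl1 h).box (h1 S h)
  · exact box_psl3O (center_eq_bot hs h.not_comm) h (h3 S h)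

theorem rowG_psp (h1 : RowP Psp1 fun S _ => FG S) (h3 : RowP Psp3 fun S _ => Exc S) : RowG PspO := by
  intro S _ _ hs h
  rcases psp_cases h with h | h
  · exact (dg_psp1 h).box (h1 S h)
  · exact box_psp3O (center_eq_bot hs h.not_comm) h (h3 S h)

theorem rowG_ree (h1 : RowP (fun S _ => IsoRee S) fun S _ => OddMoved S) : RowG fun S _ => IsoRee S :=
  fun S _ _ hs h => box_reeO (center_eq_bot hs (ree_not_comm h)) h (h1 S h)

/-- **`BoxOdd` from the character side** -/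
theorem OddSide.boxOdd (H : OddSide) : BoxOdd where
  psl := rowG_psl H.psl1 H.psl3
  psu := fun S _ _ _ h => (dg_psuO h).box (H.psu S h)
  psp := rowG_psp H.psp1 H.psp3
  podd := fun S _ _ _ h => (dg_poddO h).box (H.podd S h)
  plus := fun S _ _ _ h => (dg_plusO h).box (H.plus S h)
  minus := fun S _ _ _ h => (dg_minusO h).box (H.minus S h)
  g2 := fun S _ _ _ h => (dg_g2O h).box (H.g2 S h)
  f4 := fun S _ _ _ h => (dg_f4O h).box (H.f4 S h)
  e6 := fun S _ _ _ h => (dg_e6O h).box (H.e6 S h)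
  e7 := fun S _ _ _ h => (dg_e7O h).box (H.e7 S h)
  e8 := fun S _ _ _ h => (dg_e8O h).box (H.e8 S h)
  tw := fun S _ _ _ h => (dg_twE6O h).box (H.tw S h)
  d4 := fun S _ _ _ h => (dg_twD4O h).box (H.d4 S h)
  ree := rowG_ree H.ree

end Cfsg.Agent.GAL.Nrm
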