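import Cfsg.Agent.GAL.Nrm.Sp
import Cfsg.Agent.H341.Pron.TorCent
import Cfsg.Agent.H621.Pron.ECen
import Cfsg.Agent.H621.Pron.G2D4
import Cfsg.Agent.H763.PsaTwo
import Cfsg.Agent.H763.PsuSyl
import Cfsg.Agent.H803.RowOmega

/-!
# S4617 / S4618, the group side: the generic rows in odd characteristic (helper10, GAL)

`AllDG` for `PSL`, `PSU`, `PSp`, `PΩ`, `G₂`, `F₄`, `E₆`, `E₇`, `E₈`, `²E₆`, `³D₄`, with the exception of `L₂(q)` and
`PSp_{2m}(q)` for `q ≡ ±3 mod 8`.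
-/

set_option autoImplicit false

namespace Cfsg.Agent.GAL.Nrm

open Cfsg Cfsg.Lie Subgroup
open Cfsg.Agent.H158.PronMat Cfsg.Agent.H158.PronSp Cfsg.Agent.H158.PronM2

universe u v

theorem two_ne_of_odd {F : Type*} [Field F] [Fintype F] (hodd : Odd (Fintype.card F)) : (2 : F) ≠ 0 := by
  intro h
  have h1 : CharP F 2 := by
    obtain ⟨p, hp⟩ := CharP.exists F
    have h3 : p ∣ 2 := (CharP.cast_eq_zero_iff F p 2).1 (by exact_mod_cast h)
    rcases (Nat.dvd_prime Nat.prime_two).1 h3 with rfl | rfl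
    · exact absurd rfl (CharP.char_ne_one F 1)
    · exact hp
  have h3 := FiniteField.even_card_of_char_two (ringChar.eq F 2)
  have h4 := Nat.odd_iff.1 hodd
  omega

/-- self-normalizing Sylow subgroups pass to quotients -/
theorem self_of_surjective {G : Type u} {H : Type v} [Group G] [Group H] [Finite G] (f : G →* H)
    (hf : Function.Surjective f) (P : Sylow 2 G) (h : normalizer ((P : Subgroup G) : Set G) ≤ P) :
    ∃ Q : Sylow 2 H, normalizer ((Q : Subgroup H) : Set H) ≤ Q := by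
  have := fact2
  refine ⟨P.mapSurjective hf, fun y hy => ?_⟩
  let K : Subgroup G := ((P.mapSurjective hf : Sylow 2 H) : Subgroup H).comap f
  have hPK : (P : Subgroup G) ≤ K := fun x hx => ⟨x, hx, rfl⟩
  obtain ⟨g, rfl⟩ := hf y
  have hg : g ∈ normalizer (K : Set G) := by
    rw [mem_normalizer_iff]
    intro x
    rw [mem_comap, mem_comap, map_mul, map_mul, map_inv]
    exact mem_normalizer_iff.1 hy _
  obtain ⟨k, hk, m, hm, rfl⟩ := Cfsg.Agent.H158.PronProd.frattini P hPK hg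
  rw [map_mul]
  exact mul_mem hk (hPK (h hm))

section classical

variable {F : Type u} [Field F] [Fintype F]

theorem dg_psl (hodd : Odd (Fintype.card F)) {n : ℕ} (hn : 2 ≤ n)
    (h2 : n = 2 → Fintype.card F % 8 = 1 ∨ Fintype.card F % 8 = 7) :
    AllDG (Matrix.ProjectiveSpecialLinearGroup (Fin n) F) := by
  have : Finite (Matrix.ProjectiveSpecialLinearGroup (Fin n) F) := inferInstanceAs (Finite (_ ⧸ _))
  exact allDG_of_aut default (Cfsg.Agent.H763.Psa.psl_main hn hodd h2 default).1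

theorem dg_psu (hodd : Odd (Fintype.card F)) {n q : ℕ} (hq : Fintype.card F = q ^ 2) (hn : 3 ≤ n) :
    AllDG (PSU n F q) := by
  have hfinSU : Finite (Cfsg.SU n F q) := inferInstance
  have : Finite (PSU n F q) :=
    Finite.of_surjective (QuotientGroup.mk' (center (Cfsg.SU n F q))) (QuotientGroup.mk'_surjective _)
  exact allDG_of_aut default (Cfsg.Agent.H763.Psa.psu_main hn hq (two_ne_of_odd hodd) default).1

theorem self_psp (h8 : Fintype.card F % 8 = 1 ∨ Fintype.card F % 8 = 7) (m : ℕ) :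
    ∃ Q : Sylow 2 (PSp m F), normalizer ((Q : Subgroup (PSp m F)) : Set (PSp m F)) ≤ Q := by
  have h2 : (2 : F) ≠ 0 := two_ne_of_odd (Nat.odd_iff.2 (by omega))
  obtain ⟨a, b, hab⟩ := exists_sq_add_sq (-1 : F)
  obtain ⟨P, hP⟩ := self_GU (n := Fin m) h2 (FiniteField.isSquare_two_iff.2 (by omega))
  exact self_of_surjective ((QuotientGroup.mk' _).comp (toSp hab))
    ((QuotientGroup.mk'_surjective _).comp (toSp_surjective hab h2)) P hP

theorem dg_psp (h8 : Fintype.card F % 8 = 1 ∨ Fintype.card F % 8 = 7) (m : ℕ) : AllDG (PSp m F) := by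
  obtain ⟨Q, hQ⟩ := self_psp h8 m
  exact allDG_of Q (dg_of_self Q hQ)

theorem noC_psp1 (h8 : Fintype.card F % 8 = 1 ∨ Fintype.card F % 8 = 7) (m : ℕ) : NoC (PSp m F) := by
  obtain ⟨Q, hQ⟩ := self_psp h8 m
  exact noC_of_self Q hQ

theorem dg_podd (hodd : Odd (Fintype.card F)) {m : ℕ} (hm : 3 ≤ m) : AllDG (POmega F (quadFormOdd m F)) :=
  fun Q => dg_of_self Q (Cfsg.Agent.H803.RowOmega.self_odd hodd m hm Q)

theorem dg_plus (hodd : Odd (Fintype.card F)) {m : ℕ} (hm : 4 ≤ m) : AllDG (POmega F (quadFormPlus m F)) :=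
  fun Q => dg_of_self Q (Cfsg.Agent.H803.RowOmega.self_plus hodd m hm Q)

theorem dg_minus (hodd : Odd (Fintype.card F)) {m : ℕ} (hm : 4 ≤ m) {a b : F}
    (hab : ∀ z₁ z₂ : F, z₁ ^ 2 + a * z₁ * z₂ + b * z₂ ^ 2 = 0 → z₁ = 0 ∧ z₂ = 0) :
    AllDG (POmega F (quadFormMinus (m - 1) F a b)) :=
  fun Q => dg_of_self Q (Cfsg.Agent.H803.RowOmega.self_minus hodd m hm a b hab Q)

end classical

section exceptional

theorem dg_of_hex {K : Type u} [Group K] [Finite K] (P : Sylow 2 K) {k : ℕ} (hk : 1 ≤ k)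
    (e : Cfsg.Agent.ClassificationK.GTwoModel.T (2 * 2 ^ k) ≃* (P : Subgroup K)) : AllDG K := by
  refine allDG_of_aut P fun φ n hn h => ?_
  have h1 : (MulAut.congr e.symm φ) ^ n = 1 := by
    rw [← map_pow, h, map_one]
  have h2 := Cfsg.Agent.H779.RowHex.aut_eq_one hk _ hn h1
  exact (MulAut.congr e.symm).injective (h2.trans (map_one _).symm)

variable {F : Type u} [Field F] [Fintype F]

theorem dg_G2 (hodd : Odd (Fintype.card F)) : AllDG ↥(chevG2.group F) := by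
  have hcard : Nat.card ↥(chevG2.group F) =
      Fintype.card F ^ 6 * (Fintype.card F ^ 2 - 1) * (Fintype.card F ^ 6 - 1) :=
    Cfsg.Agent.S1059.result (F := F) rfl
  obtain ⟨Q⟩ : Nonempty (Sylow 2 ↥(chevG2.group F)) := inferInstance
  obtain ⟨k, hk, ⟨f⟩⟩ := Cfsg.Agent.ClassificationK.GTwoSylow.exists_equiv hodd hcard Q
  exact dg_of_hex Q hk f

theorem dg_3D4 {q : ℕ} (hodd : Odd (Fintype.card F)) (hq : Fintype.card F = q ^ 3) : AllDG ↥(twistedD4 F q) := by
  have hq' : Odd q := by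
    rw [hq, pow_succ'] at hodd
    exact Nat.Odd.of_mul_left hodd
  obtain ⟨Q⟩ : Nonempty (Sylow 2 ↥(twistedD4 F q)) := inferInstance
  obtain ⟨k, m, hk, -, -, ⟨f⟩⟩ := Cfsg.Agent.H285.D4Sylow.exists_equiv hq' hq Q
  exact dg_of_hex Q hk f

theorem dg_F4 (hodd : Odd (Fintype.card F)) : AllDG ↥(chevF4.group F) := by
  obtain ⟨Q, hQ⟩ := Cfsg.Agent.H341.PronTor.cent_F4 hodd
  exact allDG_of_comm Q hQ

theorem dg_E8 (hodd : Odd (Fintype.card F)) : AllDG ↥(chevE8.group F) := by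
  obtain ⟨Q, hQ⟩ := Cfsg.Agent.H341.PronTor.cent_E8 hodd
  exact allDG_of_comm Q hQ

theorem dg_E6 (hodd : Odd (Fintype.card F)) : AllDG ↥(chevE6.group F) := by
  obtain ⟨Q, hQ⟩ := Cfsg.Agent.H621.Pron.cen_E6 hodd
  exact allDG_of_comm Q hQ

theorem dg_E7 (hodd : Odd (Fintype.card F)) : AllDG ↥(chevE7.group F) := by
  obtain ⟨Q, hQ⟩ := Cfsg.Agent.H621.Pron.cen_E7 hodd
  exact allDG_of_comm Q hQ

theorem dg_2E6 {q : ℕ} (hodd : Odd (Fintype.card F)) (hq : Fintype.card F = q ^ 2) : AllDG ↥(twistedE6 F q) := by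
  have hq' : Odd q := by
    rw [hq, pow_two] at hodd
    exact Nat.Odd.of_mul_left hodd
  obtain ⟨Q, hQ⟩ := Cfsg.Agent.H621.Pron.cen_2E6 hq' hq
  exact allDG_of_comm Q hQ

end exceptional

end Cfsg.Agent.GAL.Nrm
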