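import Cfsg.Agent.GAL.Tools
import Cfsg.Prelude.Def_KGroupFacts

/-!
# S4617 / S4618, the group side of the boxes: general lemmas (helper10, GAL)

* `AllDG G`, `NoC G` : `DG` for all Sylow 2-subgroups; their centralizers have no elements of odd order;
* `Mdl Q r` : an automorphism `r` with `r ^ 2 ∈ Q` which has no fixed points on `N(Q) / Q ≠ 1`;
* `Mdl.dd`, `ff_of_delta`, `Mdl.box` : the box if `4` does not divide the order of `Out S`.
-/

set_option autoImplicit false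

namespace Cfsg.Agent.GAL.Nrm

open Cfsg Cfsg.Agent.H601.K4 Cfsg.Agent.TAB.Use Cfsg.Agent.ODD.Red Subgroup

universe u v

/-- `DG` for all Sylow 2-subgroups -/
def AllDG (G : Type u) [Group G] : Prop := ∀ Q : Sylow 2 G, DG Q

/-- the centralizers of the Sylow 2-subgroups have no elements of odd order -/
def NoC (G : Type u) [Group G] : Prop :=
  ∀ (Q : Sylow 2 G), ∀ y ∈ centralizer ((Q : Subgroup G) : Set G), Odd (orderOf y) → y = 1

section

variable {G : Type u} [Group G] {H : Type v} [Group H]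

theorem allDG_of [Finite G] (Q : Sylow 2 G) (h : DG Q) : AllDG G := fun P => h.sylow P

theorem allDG_of_comm [Finite G] (Q : Sylow 2 G)
    (h : ∀ g ∈ normalizer ((Q : Subgroup G) : Set G), Odd (orderOf g) → ∀ s ∈ (Q : Subgroup G), g * s = s * g) :
    AllDG G :=
  allDG_of Q fun y hy ho => mem_centralizer_iff.2 fun s hs => (h y hy ho s hs).symm

theorem allDG_of_aut [Finite G] (S : Sylow 2 G)
    (h : ∀ (φ : MulAut ↥(S : Subgroup G)) (k : ℕ), Odd k → φ ^ k = 1 → φ = 1) : AllDG G := by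
  refine allDG_of_comm S fun g hg ho s hs => ?_
  set φ : MulAut ↥(S : Subgroup G) := (S : Subgroup G).normalizerMonoidHom ⟨g, hg⟩ with hφ
  have h1 : φ ^ orderOf g = 1 := by
    rw [hφ, ← map_pow]
    have : (⟨g, hg⟩ : Subgroup.normalizer ((S : Subgroup G) : Set G)) ^ orderOf g = 1 :=
      Subtype.ext (pow_orderOf_eq_one g)
    rw [this, map_one]
  have h2 := h φ _ ho h1
  have h3 : ((φ ⟨s, hs⟩ : ↥(S : Subgroup G)) : G) = s := by rw [h2]; rfl
  have h4 : ((φ ⟨s, hs⟩ : ↥(S : Subgroup G)) : G) = g * s * g⁻¹ := rfl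
  rw [h4] at h3
  exact mul_inv_eq_iff_eq_mul.1 h3

theorem exists_sylow_congr [Finite G] (e : G ≃* H) (Q : Sylow 2 G) :
    ∃ P : Sylow 2 H, ∀ x : G, e x ∈ (P : Subgroup H) ↔ x ∈ (Q : Subgroup G) := by
  have := fact2
  refine ⟨Q.mapSurjective (f := e.toMonoidHom) e.surjective, fun s => ⟨?_, fun hs => ⟨s, hs, rfl⟩⟩⟩
  rintro ⟨x, hx, h1⟩
  rwa [← e.injective h1]

theorem AllDG.congr [Finite G] (e : G ≃* H) (h : AllDG H) : AllDG G := by
  intro Q y hy ho
  obtain ⟨P, hP⟩ := exists_sylow_congr e Q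
  have h1 : e y ∈ normalizer ((P : Subgroup H) : Set H) := by
    rw [mem_normalizer_iff]
    intro x
    obtain ⟨x, rfl⟩ := e.surjective x
    rw [← map_inv, ← map_mul, ← map_mul, hP, hP]
    exact mem_normalizer_iff.1 hy x
  have h2 := h P _ h1 (by rwa [MulEquiv.orderOf_eq])
  rw [mem_centralizer_iff] at h2 ⊢
  intro x hx
  apply e.injective
  rw [map_mul, map_mul]
  exact h2 _ ((hP x).2 hx)

theorem NoC.congr [Finite G] (e : G ≃* H) (h : NoC H) : NoC G := by
  intro Q y hy ho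
  obtain ⟨P, hP⟩ := exists_sylow_congr e Q
  have h1 : e y ∈ centralizer ((P : Subgroup H) : Set H) := by
    rw [mem_centralizer_iff]
    intro x hx
    obtain ⟨x, rfl⟩ := e.surjective x
    rw [← map_mul, ← map_mul, mem_centralizer_iff.1 hy x ((hP x).1 hx)]
  exact (map_eq_one_iff e e.injective).1 (h P _ h1 (by rwa [MulEquiv.orderOf_eq]))

theorem noC_of [Finite G] (P : Sylow 2 G)
    (h : ∀ y ∈ centralizer ((P : Subgroup G) : Set G), Odd (orderOf y) → y = 1) : NoC G := by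
  have := fact2
  intro Q y hy ho
  obtain ⟨g, rfl⟩ := MulAction.exists_smul_eq G P Q
  have hmem : ∀ x, x ∈ (P : Subgroup G) → g * x * g⁻¹ ∈ ((g • P : Sylow 2 G) : Subgroup G) := by
    intro x hx
    rw [Sylow.coe_subgroup_smul, Subgroup.mem_pointwise_smul_iff_inv_smul_mem, ← map_inv, MulAut.smul_def,
      MulAut.conj_apply, inv_inv]
    rwa [show g⁻¹ * (g * x * g⁻¹) * g = x by group]
  have h1 : g⁻¹ * y * g⁻¹⁻¹ = 1 := by
    refine h _ ?_ (by rwa [orderOf_conj'])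
    rw [mem_centralizer_iff]
    intro x hx
    have h2 := mem_centralizer_iff.1 hy _ (hmem x hx)
    calc x * (g⁻¹ * y * g⁻¹⁻¹) = g⁻¹ * (g * x * g⁻¹ * y) * g := by group
      _ = g⁻¹ * (y * (g * x * g⁻¹)) * g := by rw [h2]
      _ = g⁻¹ * y * g⁻¹⁻¹ * x := by group
  calc y = g * (g⁻¹ * y * g⁻¹⁻¹) * g⁻¹ := by group
    _ = 1 := by rw [h1]; group

theorem noC_of_le [Finite G] (P : Sylow 2 G) (h : centralizer ((P : Subgroup G) : Set G) ≤ P) : NoC G :=
  noC_of P fun _ hy ho => eq_one_of_odd_of_mem P.isPGroup' (h hy) ho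

/-- a self-normalizing Sylow subgroup -/
theorem noC_of_self [Finite G] (P : Sylow 2 G) (h : normalizer ((P : Subgroup G) : Set G) ≤ P) : NoC G :=
  noC_of_le P ((centralizer_le_normalizer _).trans h)

/-- all characters of odd degree are in the principal block -/
theorem NoC.inB0 [Finite G] (h : NoC G) {χ : G → ℂ} (hχ : OddIrr χ) : InB0 χ :=
  inB0_of_cent default (h default) hχ

theorem NoC.not_fg [Finite G] (h : NoC G) (hM : OddMoved G) : ¬ FG G :=
  not_fg_of_moved default (h default) hM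

/-- an element with a power `g ^ 2 ^ k` of odd order which has the same cyclic group modulo the 2-elements -/
theorem exists_odd_pow [Finite G] (g : G) : ∃ k : ℕ, Odd (orderOf (g ^ 2 ^ k)) := by
  obtain ⟨k, m, hm, hk⟩ := Nat.exists_eq_pow_mul_and_not_dvd (orderOf_pos g).ne' 2 (by norm_num)
  refine ⟨k, Odd.of_dvd_nat (odd_iff'.2 hm) (orderOf_dvd_of_pow_eq_one ?_)⟩
  rw [← pow_mul, ← hk, pow_orderOf_eq_one]

/-- a 2-element of the normalizer is in the Sylow subgroup -/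
theorem mem_of_pow_mem [Finite G] (Q : Sylow 2 G) {g : G} (hg : g ∈ normalizer ((Q : Subgroup G) : Set G)) {k : ℕ}
    (hk : g ^ 2 ^ k ∈ (Q : Subgroup G)) : g ∈ (Q : Subgroup G) := by
  have := fact2
  obtain ⟨l, hl⟩ := Q.isPGroup' ⟨_, hk⟩
  have h1 : g ^ 2 ^ (k + l) = 1 := by
    rw [pow_add, pow_mul]
    exact congrArg Subtype.val hl
  have h2 : IsPGroup 2 (zpowers g) := by
    refine IsPGroup.of_card (n := (orderOf g).factorization 2) ?_
    rw [Nat.card_zpowers]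
    obtain ⟨j, -, hj⟩ := (Nat.dvd_prime_pow Nat.prime_two).1 (orderOf_dvd_of_pow_eq_one h1)
    rw [hj, Nat.Prime.factorization_pow Nat.prime_two]
    simp
  have h3 := IsPGroup.to_sup_of_normal_left' Q.isPGroup' h2 (zpowers_le.2 hg)
  have h4 := Q.is_maximal' h3 le_sup_left
  rw [← h4]
  exact mem_sup_right (mem_zpowers g)

/-- `DG` fails if the normalizer is larger than the Sylow subgroup and there is no odd centralizer -/
theorem not_dg [Finite G] (hC : NoC G) (Q : Sylow 2 G) {g : G} (hg : g ∈ normalizer ((Q : Subgroup G) : Set G))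
    (hQ : g ∉ (Q : Subgroup G)) : ¬ DG Q := by
  intro h
  obtain ⟨k, hk⟩ := exists_odd_pow g
  have h1 := hC Q _ (h _ (pow_mem hg _) hk) hk
  exact hQ (mem_of_pow_mem Q hg (k := k) (by rw [h1]; exact one_mem _))

/-- two nontrivial elements of a 2-subgroup are equal if `4` does not divide the order of the group -/
theorem eq_of_not_four [Finite H] (h4 : ¬ 4 ∣ Nat.card H) {T : Subgroup H} (hT : IsPGroup 2 T) {x y : H}
    (hx : x ∈ T) (hy : y ∈ T) (hx1 : x ≠ 1) (hy1 : y ≠ 1) : x = y := by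
  have := fact2
  obtain ⟨k, hk⟩ := IsPGroup.iff_card.1 hT
  have h1 : Nat.card T ≤ 2 := by
    rcases k with _ | _ | k
    · omega
    · omega
    · exfalso
      refine h4 (dvd_trans ?_ T.card_subgroup_dvd_card)
      rw [hk]
      exact ⟨2 ^ k, by ring⟩
  by_contra hne
  classical
  have h2 : ({⟨1, T.one_mem⟩, ⟨x, hx⟩, ⟨y, hy⟩} : Finset T).card = 3 := by
    rw [Finset.card_eq_three]
    refine ⟨_, _, _, ?_, ?_, ?_, rfl⟩
    · exact fun h => hx1 (congrArg Subtype.val h).symm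
    · exact fun h => hy1 (congrArg Subtype.val h).symm
    · exact fun h => hne (congrArg Subtype.val h)
  have := Fintype.ofFinite T
  have h3 := Finset.card_le_univ ({⟨1, T.one_mem⟩, ⟨x, hx⟩, ⟨y, hy⟩} : Finset T)
  rw [Nat.card_eq_fintype_card] at h1
  omega

theorem isPGroup_zpowers [Finite H] {x : H} {k : ℕ} (hx : x ^ 2 ^ k = 1) : IsPGroup 2 (zpowers x) := by
  rintro ⟨y, hy⟩
  obtain ⟨l, rfl⟩ := mem_zpowers_iff.1 hy
  refine ⟨k, Subtype.ext ?_⟩
  show (x ^ l) ^ 2 ^ k = 1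
  rw [← zpow_natCast, ← zpow_mul, mul_comm, zpow_mul, zpow_natCast, hx, one_zpow]

end

section

variable {S : Type u} [Group S]

theorem inner_iff (r : MulAut S) : Inner r ↔ (QuotientGroup.mk r : Out S) = 1 := by
  rw [QuotientGroup.eq_one_iff]
  exact ⟨fun ⟨s, hs⟩ => ⟨s, hs.symm⟩, fun ⟨s, hs⟩ => ⟨s, hs.symm⟩⟩

theorem exists_of_mk_eq {r r' : MulAut S} (h : (QuotientGroup.mk r : Out S) = QuotientGroup.mk r') :
    ∃ s : S, r = MulAut.conj s * r' := by
  have h1 : Inner (r * r'⁻¹) := by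
    rw [inner_iff, QuotientGroup.mk_mul, QuotientGroup.mk_inv, h, mul_inv_cancel]
  obtain ⟨s, hs⟩ := h1
  exact ⟨s, by rw [← hs]; group⟩

theorem conj_conj (α : MulAut S) (s : S) : α * MulAut.conj s * α⁻¹ = MulAut.conj (α s) := by
  ext x
  simp

/-- if the order of `Out S` is odd, the automorphisms of 2-power order are inner -/
theorem inner_of_odd (h : Odd (Nat.card (Out S))) (r : MulAut S) (hr : ∃ k : ℕ, r ^ 2 ^ k = 1) : Inner r := by
  obtain ⟨k, hk⟩ := hr
  rw [inner_iff, ← orderOf_eq_one_iff]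
  have h1 : orderOf (QuotientGroup.mk r : Out S) ∣ 2 ^ k := by
    apply orderOf_dvd_of_pow_eq_one
    rw [← QuotientGroup.mk_pow, hk, QuotientGroup.mk_one]
  exact Nat.eq_one_of_dvd_coprimes (Nat.Coprime.pow_left k (Nat.coprime_two_left.2 h)) h1
    (orderOf_dvd_natCard _)

theorem card_out [Finite S] (hZ : center S = ⊥) : Nat.card (MulAut S) = Nat.card (Out S) * Nat.card S := by
  have hinj : Function.Injective (MulAut.conj : S →* MulAut S) := by
    rw [injective_iff_map_eq_one]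
    intro z hz
    have h1 : z ∈ center S := by
      rw [mem_center_iff]
      intro g
      have h2 : MulAut.conj z g = g := by rw [hz]; rfl
      rw [MulAut.conj_apply] at h2
      exact (mul_inv_eq_iff_eq_mul.1 h2).symm
    rwa [hZ, mem_bot] at h1
  rw [card_eq_card_quotient_mul_card_subgroup (Inn S), ← Nat.card_congr (MonoidHom.ofInjective hinj).toEquiv]

/-- the outer automorphisms of 2-power order are conjugate -/
theorem exists_conj [Finite S] (h4 : ¬ 4 ∣ Nat.card (Out S)) {r δ : MulAut S} (hr : ¬ Inner r) (hδ : ¬ Inner δ)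
    (hr2 : ∃ k : ℕ, Inner (r ^ 2 ^ k)) (hδ2 : ∃ k : ℕ, Inner (δ ^ 2 ^ k)) :
    ∃ (α : MulAut S) (s : S), r = MulAut.conj s * (α * δ * α⁻¹) := by
  have := fact2
  obtain ⟨k, hk⟩ := hr2
  obtain ⟨l, hl⟩ := hδ2
  rw [inner_iff, QuotientGroup.mk_pow] at hk hl
  rw [inner_iff] at hr hδ
  obtain ⟨P, hP⟩ := (isPGroup_zpowers hk).exists_le_sylow
  obtain ⟨P', hP'⟩ := (isPGroup_zpowers hl).exists_le_sylow
  obtain ⟨g, rfl⟩ := MulAction.exists_smul_eq (Out S) P' P
  obtain ⟨α, rfl⟩ := QuotientGroup.mk_surjective g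
  have h1 : (QuotientGroup.mk (α * δ * α⁻¹) : Out S) ∈
      (((QuotientGroup.mk α : Out S) • P' : Sylow 2 (Out S)) : Subgroup (Out S)) := by
    rw [Sylow.coe_subgroup_smul, Subgroup.mem_pointwise_smul_iff_inv_smul_mem, ← map_inv, MulAut.smul_def,
      MulAut.conj_apply, inv_inv, ← QuotientGroup.mk_inv, ← QuotientGroup.mk_mul, ← QuotientGroup.mk_mul,
      show α⁻¹ * (α * δ * α⁻¹) * α = δ by group]
    exact hP' (mem_zpowers _)
  have h2 := eq_of_not_four h4 (Sylow.isPGroup' _) (hP (mem_zpowers _)) h1 hr (by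
    intro h
    apply hδ
    rw [QuotientGroup.mk_mul, QuotientGroup.mk_mul, QuotientGroup.mk_inv, mul_inv_eq_one, mul_eq_left] at h
    exact h)
  obtain ⟨s, hs⟩ := exists_of_mk_eq h2
  exact ⟨α, s, hs⟩

/-- the characters of odd degree in the principal block which are invariant under `δ` are fixed by `σ` -/
def FD (δ : MulAut S) : Prop :=
  ∀ θ : S → ℂ, OddIrr θ → InB0 θ → (∀ s, θ (δ s) = θ s) → ∀ σ, Sig σ → Fix σ θ

theorem FD.fg {δ : MulAut S} (h : FD δ) (hδ : Inner δ) : FG S := by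
  obtain ⟨t, rfl⟩ := hδ
  exact fun θ h1 h2 => h θ h1 h2 fun s => Cfsg.Agent.Characters.Core.isIrr_isClassFunction h1.1 s t

/-- the character side for a frame with an outer automorphism -/
theorem ff_of_delta [Finite S] (h4 : ¬ 4 ∣ Nat.card (Out S)) {δ : MulAut S} (hδ2 : ∃ k : ℕ, Inner (δ ^ 2 ^ k))
    (hF : FD δ) {R : Subgroup (MulAut S)} (hR : IsPGroup 2 R) (h : ∃ r ∈ R, ¬ Inner r) : FF R := by
  by_cases hδ : Inner δ
  · exact (hF.fg hδ).ff R
  obtain ⟨r, hr, hr'⟩ := h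
  obtain ⟨k, hk⟩ := hR ⟨r, hr⟩
  have hk' : r ^ 2 ^ k = 1 := congrArg Subtype.val hk
  obtain ⟨α, t, ht⟩ := exists_conj h4 hr' hδ ⟨k, 1, by rw [hk', map_one]⟩ hδ2
  intro θ h1 h2 h3 σ hσ s
  have h5 := hF (fun x => θ (α x)) (oddIrr_comp (f := α.toMonoidHom) α.surjective h1) (inB0_equiv α h1 h2)
    (fun x => ?_) σ hσ (α⁻¹ s)
  · simpa using h5
  · have h6 := h3 r hr (α x)
    rw [ht, MulAut.mul_apply, MulAut.conj_apply, Cfsg.Agent.Characters.Core.isIrr_isClassFunction h1.1] at h6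
    simpa using h6

/-- **a model of the exceptional situation** -/
structure Mdl (Q : Sylow 2 S) (r : MulAut S) : Prop where
  map : ∀ q ∈ (Q : Subgroup S), r q ∈ (Q : Subgroup S)
  sq : ∃ q ∈ (Q : Subgroup S), r * r = MulAut.conj q
  fpf : ∀ y ∈ normalizer ((Q : Subgroup S) : Set S), y⁻¹ * r y ∈ (Q : Subgroup S) → y ∈ (Q : Subgroup S)
  ne : ∃ y ∈ normalizer ((Q : Subgroup S) : Set S), y ∉ (Q : Subgroup S)
  cent : ∀ y ∈ centralizer ((Q : Subgroup S) : Set S), Odd (orderOf y) → y = 1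

theorem Mdl.noC [Finite S] {Q : Sylow 2 S} {r : MulAut S} (h : Mdl Q r) : NoC S := noC_of Q h.cent

theorem Mdl.not_dg [Finite S] {Q : Sylow 2 S} {r : MulAut S} (h : Mdl Q r) (P : Sylow 2 S) : ¬ DG P := by
  obtain ⟨y, hy, hy'⟩ := h.ne
  exact fun hP => Nrm.not_dg h.noC Q hy hy' (hP.sylow Q)

theorem Mdl.frame [Finite S] {Q : Sylow 2 S} {r : MulAut S} (h : Mdl Q r) :
    ∃ R : Subgroup (MulAut S), Frame Q R ∧ r ∈ R := by
  have := fact2
  obtain ⟨q, hq, hr⟩ := h.sq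
  obtain ⟨k, hk⟩ := Q.isPGroup' ⟨q, hq⟩
  have hk' : q ^ 2 ^ k = 1 := congrArg Subtype.val hk
  have h1 : r ^ 2 ^ (k + 1) = 1 := by
    rw [pow_succ', pow_mul, pow_two, hr, ← map_pow, hk', map_one]
  have h2 : r ∈ normalizer (((Q : Subgroup S).map (MulAut.conj : S →* MulAut S) : Subgroup (MulAut S)) :
      Set (MulAut S)) := by
    refine mem_normalizer_fintype ?_
    rintro _ ⟨x, hx, rfl⟩
    exact ⟨r x, h.map x hx, (conj_conj r x).symm⟩
  refine ⟨_, ⟨IsPGroup.to_sup_of_normal_left' (Q.isPGroup'.map (MulAut.conj : S →* MulAut S)) (isPGroup_zpowers h1)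
    (zpowers_le.2 h2), fun x hx => mem_sup_left ⟨x, hx, rfl⟩⟩, mem_sup_right (mem_zpowers r)⟩

theorem Mdl.not_inner [Finite S] (hZ : center S = ⊥) {Q : Sylow 2 S} {r : MulAut S} (h : Mdl Q r) : ¬ Inner r := by
  obtain ⟨R, hR, hr⟩ := h.frame
  rintro ⟨s, rfl⟩
  have hs := hR.mem hZ hr
  obtain ⟨y, hy, hy'⟩ := h.ne
  refine hy' (h.fpf y hy ?_)
  have h2 := (mem_normalizer_iff.1 (inv_mem hy) s).1 hs
  rw [inv_inv] at h2
  rw [MulAut.conj_apply, show y⁻¹ * (s * y * s⁻¹) = y⁻¹ * s * y * s⁻¹ by group]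
  exact (Q : Subgroup S).mul_mem h2 ((Q : Subgroup S).inv_mem hs)

/-- the group side for a frame with an outer automorphism -/
theorem Mdl.dd [Finite S] (hZ : center S = ⊥) (h4 : ¬ 4 ∣ Nat.card (Out S)) {Q₀ : Sylow 2 S} {r₀ : MulAut S}
    (h : Mdl Q₀ r₀) {Q : Sylow 2 S} {R : Subgroup (MulAut S)} (hR : Frame Q R) (hr : ∃ r ∈ R, ¬ Inner r) :
    DD Q R := by
  have := fact2
  obtain ⟨r, hr, hr'⟩ := hr
  obtain ⟨R₀, hR₀, hr₀⟩ := h.frame
  obtain ⟨P, hP⟩ := hR.two.exists_le_sylow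
  obtain ⟨P₀, hP₀⟩ := hR₀.two.exists_le_sylow
  have fP : Frame Q (P : Subgroup (MulAut S)) := ⟨P.isPGroup', fun q hq => hP (hR.inn q hq)⟩
  have fP₀ : Frame Q₀ (P₀ : Subgroup (MulAut S)) := ⟨P₀.isPGroup', fun q hq => hP₀ (hR₀.inn q hq)⟩
  obtain ⟨α, rfl⟩ := MulAction.exists_smul_eq (MulAut S) P₀ P
  have hmem : ∀ x, x ∈ ((α • P₀ : Sylow 2 (MulAut S)) : Subgroup (MulAut S)) ↔
      α⁻¹ * x * α ∈ (P₀ : Subgroup (MulAut S)) := by
    intro x
    rw [Sylow.coe_subgroup_smul, Subgroup.mem_pointwise_smul_iff_inv_smul_mem, ← map_inv, MulAut.smul_def,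
      MulAut.conj_apply, inv_inv]
  have hQ : ∀ x, x ∈ (Q : Subgroup S) ↔ α⁻¹ x ∈ (Q₀ : Subgroup S) := by
    intro x
    have h1 := conj_conj α⁻¹ x
    rw [inv_inv] at h1
    constructor
    · intro hx
      refine fP₀.mem hZ ?_
      rw [← h1, ← hmem]
      exact fP.inn x hx
    · intro hx
      refine fP.mem hZ ?_
      rw [hmem, h1]
      exact fP₀.inn _ hx
  have h1 : α⁻¹ * r * α ∈ (P₀ : Subgroup (MulAut S)) := (hmem r).1 (hP hr)
  have h2 : (QuotientGroup.mk (α⁻¹ * r * α) : Out S) = QuotientGroup.mk r₀ := by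
    refine eq_of_not_four h4 (P₀.isPGroup'.map (QuotientGroup.mk' (Inn S))) ⟨_, h1, rfl⟩ ⟨_, hP₀ hr₀, rfl⟩ ?_ ?_
    · intro h3
      apply hr'
      rw [QuotientGroup.mk_mul, QuotientGroup.mk_mul, QuotientGroup.mk_inv, mul_assoc, inv_mul_eq_one,
        right_eq_mul] at h3
      exact (inner_iff r).2 h3
    · exact fun h3 => h.not_inner hZ ((inner_iff r₀).2 h3)
  obtain ⟨q, hq⟩ := exists_of_mk_eq h2
  have hq₀ : q ∈ (Q₀ : Subgroup S) := by
    refine fP₀.mem hZ ?_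
    rw [eq_mul_inv_of_mul_eq hq.symm]
    exact mul_mem h1 (inv_mem (hP₀ hr₀))
  intro y ho hy
  have h3 : (α⁻¹ y)⁻¹ ∈ normalizer ((Q₀ : Subgroup S) : Set S) := by
    refine mem_normalizer_fintype fun x hx => ?_
    have h5 : α x ∈ (Q : Subgroup S) := by
      rw [hQ, MulAut.inv_apply_self]
      exact hx
    have h6 := (Q : Subgroup S).mul_mem (hy _ (hR.inn _ h5)) h5
    rw [MulAut.conj_apply, show y⁻¹ * (α x * y * (α x)⁻¹) * α x = y⁻¹ * α x * y by group, hQ, map_mul,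
      map_mul, map_inv, MulAut.inv_apply_self] at h6
    rw [inv_inv]
    exact h6
  have h4' : α⁻¹ y ∈ (Q₀ : Subgroup S) := by
    refine h.fpf _ (by simpa using inv_mem h3) ?_
    have h5 := (hQ _).1 (hy r hr)
    have h6 : α⁻¹ (r y) = q * r₀ (α⁻¹ y) * q⁻¹ := by
      have h7 := congrArg (fun φ : MulAut S => φ (α⁻¹ y)) hq
      simpa using h7
    rw [map_mul, map_inv, h6] at h5
    have h7 := (mem_normalizer_iff.1 h3 q).1 hq₀
    rw [inv_inv] at h7
    have h8 := mul_mem (mul_mem (inv_mem h7) h5) hq₀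
    have h11 : ((α⁻¹ y)⁻¹ * q * α⁻¹ y)⁻¹ * ((α⁻¹ y)⁻¹ * (q * r₀ (α⁻¹ y) * q⁻¹)) * q =
        (α⁻¹ y)⁻¹ * r₀ (α⁻¹ y) := by group
    rwa [h11] at h8
  have h5 : y = 1 := eq_one_of_odd_of_mem Q.isPGroup' ((hQ y).2 h4') ho
  intro r' _
  rw [h5, map_one]

/-- **the box in the exceptional situation** -/
theorem Mdl.box [Finite S] (hZ : center S = ⊥) (h4 : ¬ 4 ∣ Nat.card (Out S)) {Q₀ : Sylow 2 S} {r₀ : MulAut S}
    (h : Mdl Q₀ r₀) (hM : OddMoved S) {δ : MulAut S} (hδ2 : ∃ k : ℕ, Inner (δ ^ 2 ^ k)) (hF : FD δ) : Box S :=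
  box_of_cases hZ Q₀ ⟨fun h1 => absurd h1 (h.not_dg Q₀), fun h1 => absurd h1 (h.noC.not_fg hM)⟩
    fun _ _ hR hr => ⟨fun _ => ff_of_delta h4 hδ2 hF hR.two hr, fun _ => h.dd hZ h4 hR hr⟩

/-- the model passes to quotients by central 2-subgroups -/
theorem Mdl.quot {G : Type v} [Group G] [Finite G] {P : Sylow 2 G} {ρ : MulAut G} (h : Mdl P ρ) (f : G →* S)
    (hf : Function.Surjective f) (hk : ∀ g, f g = 1 ↔ g ∈ center G) (hP : center G ≤ P) :
    ∃ (Q : Sylow 2 S) (r : MulAut S), Mdl Q r := by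
  have := fact2
  have hρ : ∀ g, f (ρ g) = 1 ↔ f g = 1 := by
    intro g
    rw [hk, hk, mem_center_iff, mem_center_iff]
    constructor
    · intro h1 x
      apply ρ.injective
      rw [map_mul, map_mul, h1]
    · intro h1 x
      obtain ⟨x, rfl⟩ := ρ.surjective x
      rw [← map_mul, ← map_mul, h1]
  have hker : f.ker = (f.comp ρ.toMonoidHom).ker := by
    ext g
    exact (hρ g).symm
  let r : MulAut S := (QuotientGroup.quotientKerEquivOfSurjective f hf).symm.trans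
    ((QuotientGroup.quotientMulEquivOfEq hker).trans
      (QuotientGroup.quotientKerEquivOfSurjective (f.comp ρ.toMonoidHom) (hf.comp ρ.surjective)))
  have hr : ∀ g, r (f g) = f (ρ g) := by
    intro g
    have h1 : (QuotientGroup.quotientKerEquivOfSurjective f hf).symm (f g) = QuotientGroup.mk g := by
      rw [MulEquiv.symm_apply_eq]
      rfl
    show (QuotientGroup.quotientKerEquivOfSurjective (f.comp ρ.toMonoidHom) (hf.comp ρ.surjective))
      ((QuotientGroup.quotientMulEquivOfEq hker)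
        ((QuotientGroup.quotientKerEquivOfSurjective f hf).symm (f g))) = _
    rw [h1]
    rfl
  let Q : Sylow 2 S := P.mapSurjective hf
  have hQ : ∀ g, f g ∈ (Q : Subgroup S) ↔ g ∈ (P : Subgroup G) := by
    intro g
    refine ⟨?_, fun hg => ⟨g, hg, rfl⟩⟩
    rintro ⟨x, hx, h1⟩
    have h2 : x⁻¹ * g ∈ center G := by
      rw [← hk, map_mul, map_inv, h1, inv_mul_cancel]
    have h3 := mul_mem hx (hP h2)
    rwa [mul_inv_cancel_left] at h3
  have hN : ∀ g, f g ∈ normalizer ((Q : Subgroup S) : Set S) ↔ g ∈ normalizer ((P : Subgroup G) : Set G) := by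
    intro g
    rw [mem_normalizer_iff, mem_normalizer_iff]
    constructor
    · intro h1 x
      rw [← hQ, ← hQ, map_mul, map_mul, map_inv]
      exact h1 _
    · intro h1 x
      obtain ⟨x, rfl⟩ := hf x
      rw [← map_inv, ← map_mul, ← map_mul, hQ, hQ]
      exact h1 x
  refine ⟨Q, r, ?_, ?_, ?_, ?_, ?_⟩
  · intro q hq
    obtain ⟨q, rfl⟩ := hf q
    rw [hr, hQ]
    exact h.map q ((hQ q).1 hq)
  · obtain ⟨q, hq, h1⟩ := h.sq
    refine ⟨f q, (hQ q).2 hq, ?_⟩
    ext x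
    obtain ⟨x, rfl⟩ := hf x
    rw [MulAut.mul_apply, hr, hr, ← MulAut.mul_apply, h1]
    simp
  · intro y hy h1
    obtain ⟨y, rfl⟩ := hf y
    rw [hr, ← map_inv, ← map_mul, hQ] at h1
    exact (hQ y).2 (h.fpf y ((hN y).1 hy) h1)
  · obtain ⟨y, hy, hy'⟩ := h.ne
    exact ⟨f y, (hN y).2 hy, fun h1 => hy' ((hQ y).1 h1)⟩
  · intro y hy ho
    obtain ⟨g, rfl⟩ := hf y
    obtain ⟨k, hk'⟩ := exists_odd_pow g
    have h1 : g ^ 2 ^ k ∈ centralizer ((P : Subgroup G) : Set G) := by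
      rw [mem_centralizer_iff]
      intro x hx
      set a := g ^ 2 ^ k with ha
      have h2 : a⁻¹ * x⁻¹ * a * x ∈ center G := by
        have h3 := mem_centralizer_iff.1 (pow_mem hy (2 ^ k)) _ ((hQ x).2 hx)
        rw [← map_pow, ← ha] at h3
        rw [← hk, map_mul, map_mul, map_mul, map_inv, map_inv, mul_assoc, ← h3]
        group
      set z := a⁻¹ * x⁻¹ * a * x with hz
      have h3 : x⁻¹ * a * x = a * z := by rw [hz]; group
      have h4 : Commute a z := mem_center_iff.1 h2 a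
      have h5 : z ^ orderOf a = 1 := by
        have h6 : (x⁻¹ * a * x⁻¹⁻¹) ^ orderOf a = 1 := by
          rw [conj_pow, pow_orderOf_eq_one]
          group
        rwa [inv_inv, h3, h4.mul_pow, pow_orderOf_eq_one, one_mul] at h6
      have h6 : z = 1 := eq_one_of_odd_of_mem P.isPGroup' (hP h2)
        (Odd.of_dvd_nat hk' (orderOf_dvd_of_pow_eq_one h5))
      rw [h6, mul_one] at h3
      calc x * a = x * (x⁻¹ * a * x) := by rw [h3]
        _ = a * x := by group
    have h2 := h.cent _ h1 hk'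
    have h3 : orderOf (f g) ∣ 2 ^ k := orderOf_dvd_of_pow_eq_one (by rw [← map_pow, h2, map_one])
    exact orderOf_eq_one_iff.1 (((Nat.coprime_two_right.2 ho).pow_right k).eq_one_of_dvd h3)

end

end Cfsg.Agent.GAL.Nrm
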