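import Cfsg.Agent.GAL.Nrm.Gen
import Cfsg.Agent.H408.Pron.Gen
import Cfsg.Agent.S2431

/-!
# S4617 / S4618, the group side: the quaternion model of the symplectic groups (helper10, GAL)

* `self_GU` : `2` a square, the Sylow 2-subgroups of `GU n F` are self-normalizing;
* `mdl_GU` : `2` not a square, conjugation with `1 + i` is a model of the exceptional situation.
-/

set_option autoImplicit false
set_option linter.unusedSectionVars false

namespace Cfsg.Agent.GAL.Nrm

open Quaternion Matrix Equiv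
open Cfsg.Agent.H158.PronQ Cfsg.Agent.H158.PronMat Cfsg.Agent.H158.PronMono Cfsg.Agent.H158.PronFrame
open Cfsg.Agent.H158.PronM2 Cfsg.Agent.H408.Pron.Gen

variable {F : Type*} [Field F] {n : Type*} [Fintype n] [DecidableEq n]

/-- conjugation with `1 + i` -/
def tau (F : Type*) [Field F] : ℍ[F] ≃+* ℍ[F] where
  toFun q := mkQ q.re q.imI (-q.imK) q.imJ
  invFun q := mkQ q.re q.imI q.imK (-q.imJ)
  left_inv q := by apply Quaternion.ext <;> simp
  right_inv q := by apply Quaternion.ext <;> simp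
  map_mul' p q := by apply Quaternion.ext <;> simp <;> ring
  map_add' p q := by apply Quaternion.ext <;> simp <;> ring

theorem tau_apply (q : ℍ[F]) : tau F q = mkQ q.re q.imI (-q.imK) q.imJ := rfl

theorem tau_star (q : ℍ[F]) : tau F (star q) = star (tau F q) := by
  apply Quaternion.ext <;> simp [tau_apply]

theorem tau_symm_star (q : ℍ[F]) : (tau F).symm (star q) = star ((tau F).symm q) := by
  rw [RingEquiv.symm_apply_eq, tau_star, RingEquiv.apply_symm_apply]

theorem tau_tau (q : ℍ[F]) : tau F (tau F q) = qi * q * star qi := by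
  apply Quaternion.ext <;> simp [tau_apply]

theorem tau_isQ8 {q : ℍ[F]} (h : IsQ8 q) : IsQ8 (tau F q) := by
  have h1 : tau F qi = qi := by apply Quaternion.ext <;> simp [tau_apply]
  have h2 : tau F qj = qk := by apply Quaternion.ext <;> simp [tau_apply]
  have h3 : tau F qk = -qj := by apply Quaternion.ext <;> simp [tau_apply]
  rcases h with h | h | h | h | h | h | h | h <;> subst h <;> simp [IsQ8, h1, h2, h3]

theorem om_mul_tau (h2 : (2 : F) ≠ 0) : IsQ8 (omQ F * tau F (omQ F)) := by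
  have ht := two_half h2
  have h1 : omQ F * tau F (omQ F) = -qk := by
    apply Quaternion.ext <;> simp [omQ, tau_apply] <;> field_simp <;> ring1
  rw [h1]
  simp [IsQ8]

/-- entrywise application of a ring automorphism which commutes with the conjugation -/
def mapGU (t : ℍ[F] ≃+* ℍ[F]) (ht : ∀ q, t (star q) = star (t q)) (g : GU n F) : GU n F :=
  ⟨g.1.map t, by
    have h1 : (g.1.map t)ᴴ = g.1ᴴ.map t := by
      ext1 a b
      rw [Matrix.conjTranspose_apply, Matrix.map_apply, Matrix.map_apply, Matrix.conjTranspose_apply, ht]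
    have h2 : ∀ A B : Matrix n n ℍ[F], A.map t * B.map t = (A * B).map t := fun A B =>
      (Matrix.map_mul (f := t)).symm
    rw [mem_GU, h1, h2, h2, star_mul_coe, coe_mul_star]
    exact ⟨Matrix.map_one t (map_zero t) (map_one t), Matrix.map_one t (map_zero t) (map_one t)⟩⟩

/-- conjugation with the scalar `1 + i` -/
def tauG (n : Type*) [Fintype n] [DecidableEq n] (F : Type*) [Field F] : MulAut (GU n F) where
  toFun := mapGU (tau F) tau_star
  invFun := mapGU (tau F).symm tau_symm_star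
  left_inv g := Subtype.ext (by
    ext1 a b
    exact (tau F).symm_apply_apply _)
  right_inv g := Subtype.ext (by
    ext1 a b
    exact (tau F).apply_symm_apply _)
  map_mul' g h := Subtype.ext (Matrix.map_mul (f := tau F))

theorem tauG_apply (g : GU n F) (a b : n) : (tauG n F g).1 a b = tau F (g.1 a b) := rfl

/-- conjugation with `1 + i` on the elements of norm one -/
def tauU (u : U F) : U F := ⟨tau F u, by
  have h1 : (u : ℍ[F]) * star (u : ℍ[F]) = 1 := Unitary.coe_mul_star_self u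
  rw [Unitary.mem_iff, ← tau_star, ← map_mul, ← map_mul, Unitary.coe_star_mul_self, h1, map_one]
  exact ⟨rfl, rfl⟩⟩

theorem tauU_mul (u v : U F) : tauU (u * v) = tauU u * tauU v := Subtype.ext (map_mul (tau F) _ _)

theorem tauU_mem {u : U F} (h : u ∈ Q8 F) : tauU u ∈ Q8 F := tau_isQ8 h

theorem om_mem_of_sq (h2 : (2 : F) ≠ 0) (h : om h2 * om h2 ∈ Q8 F) : False := by
  apply om_notMem h2
  have h1 : om h2 = (om h2 * om h2)⁻¹ := by
    rw [eq_inv_iff_mul_eq_one, ← om_cube h2, pow_three]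
  rw [h1]
  exact inv_mem h

/-- no fixed points on the normalizer of `Q8` modulo `Q8` -/
theorem mem_of_tau (h2 : (2 : F) ≠ 0) (hns : ¬ IsSquare (2 : F)) {u : U F} (hu : u ∈ N8 F)
    (h : u⁻¹ * tauU u ∈ Q8 F) : u ∈ Q8 F := by
  have h0 : om h2 * tauU (om h2) ∈ Q8 F := om_mul_tau h2
  rcases N8_cases h2 hns hu with h1 | h1
  · exact h1
  exfalso
  apply om_mem_of_sq h2
  rcases half_mem h2 h1 with h3 | h3
  · have h4 : u = om h2 * ((om h2)⁻¹ * u) := by group
    generalize (om h2)⁻¹ * u = v at h3 h4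
    subst h4
    rw [tauU_mul] at h
    have h5 := mul_mem h0 (inv_mem (mul_mem (mul_mem h3 h) (inv_mem (tauU_mem h3))))
    rwa [show om h2 * tauU (om h2) * (v * ((om h2 * v)⁻¹ * (tauU (om h2) * tauU v)) * (tauU v)⁻¹)⁻¹ =
      om h2 * om h2 by group] at h5
  · have h4 : tauU (om h2) * tauU u ∈ Q8 F := by
      rw [← tauU_mul]
      exact tauU_mem h3
    have h5 := mul_mem (mul_mem h3 h) (inv_mem h4)
    have h6 := om_conj_mem' h2 h0
    have h7 := mul_mem h5 h6
    rwa [show om h2 * u * (u⁻¹ * tauU u) * (tauU (om h2) * tauU u)⁻¹ * ((om h2)⁻¹ * (om h2 * tauU (om h2)) * om h2) =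
      om h2 * om h2 by group] at h7

/-- the centralizer of the base group -/
theorem mem_SG_of_comm' (h2 : (2 : F) ≠ 0) {z : GU n F} (hz : ∀ b, ∀ w ∈ Q8 F, Rj b w * z = z * Rj b w)
    (T : Subgroup (Perm n)) : z ∈ SG (Q8 F) T := by
  have hd : ∀ a b : n, a ≠ b → z.1 a b = 0 := by
    intro a b hab
    have h1 := congrArg (fun g : GU n F => g.1 a b) (hz b nu nu_mem).symm
    have h3 : (z * Rj b nu).1 a b = z.1 a b * (-1) := by
      have h8 : (z * Rj b nu).1 = z.1 * (Rj b nu : GU n F).1 := rfl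
      rw [h8, (Rj_mono b nu).mul_apply, Perm.one_apply, Rj_apply, if_pos rfl, if_pos rfl, coe_nu]
    have h4 : (Rj b nu * z).1 a b = z.1 a b := by
      have h8 : (Rj b nu * z).1 = (Rj b nu : GU n F).1 * z.1 := rfl
      rw [h8, Matrix.mul_apply, Finset.sum_eq_single a]
      · rw [Rj_apply, if_pos rfl, if_neg hab, one_mul]
      · intro c _ hc
        rw [Rj_apply, if_neg (fun h => hc h.symm), zero_mul]
      · intro h; exact absurd (Finset.mem_univ _) h
    have h5 : z.1 a b * (-1) = z.1 a b := by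
      rw [← h3, ← h4]; exact h1
    apply two_ne h2
    have h6 : z.1 a b + z.1 a b = 0 := by
      nth_rewrite 1 [← h5]
      simp
    rw [two_mul]; exact h6
  have hm : Mono z.1 1 := fun a b hab => hd a b hab
  refine ⟨1, one_mem _, hm, fun b => ?_⟩
  obtain ⟨u, hu⟩ := hm.entry b
  refine ⟨u, ?_, hu⟩
  rw [Perm.one_apply] at hu
  have hc : ∀ w ∈ Q8 F, (u : ℍ[F]) * w = w * u := by
    intro w hw
    have h1 := congrArg (fun g : GU n F => g.1 b b) (hz b w hw).symm
    have h3 : (z * Rj b w).1 b b = z.1 b b * w := by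
      have h8 : (z * Rj b w).1 = z.1 * (Rj b w : GU n F).1 := rfl
      rw [h8, (Rj_mono b w).mul_apply, Perm.one_apply, Rj_apply, if_pos rfl, if_pos rfl]
    have h4 : (Rj b w * z).1 b b = w * z.1 b b := by
      have h8 : (Rj b w * z).1 = (Rj b w : GU n F).1 * z.1 := rfl
      rw [h8, hm.mul_apply, Perm.one_apply, Rj_apply, if_pos rfl, if_pos rfl]
    rw [hu, ← h3, ← h4]; exact h1
  have h1 : (u : ℍ[F]) = ((u : ℍ[F]).re : ℍ[F]) := eq_coe_of_comm h2 (hc uI uI_mem) (hc uJ uJ_mem)
  have h3 : (u : ℍ[F]).re * (u : ℍ[F]).re = 1 := by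
    have h4 : (u : ℍ[F]) * star (u : ℍ[F]) = 1 := Unitary.coe_mul_star_self u
    rw [h1] at h4
    have h5 := congrArg QuaternionAlgebra.re h4
    simpa using h5
  rw [mem_Q8, h1]
  rcases mul_self_eq_one_iff.1 h3 with h4 | h4
  · rw [h4]
    exact Or.inl (by simp)
  · rw [h4]
    exact Or.inr (Or.inl (by simp))

/-- **the model**, `2` not a square -/
theorem mdl_GU [Finite F] [Nonempty n] (h2 : (2 : F) ≠ 0) (hns : ¬ IsSquare (2 : F)) :
    ∃ P : Sylow 2 (GU n F), Mdl P (tauG n F) ∧ Subgroup.center (GU n F) ≤ P := by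
  obtain ⟨T⟩ : Nonempty (Sylow 2 (Perm n)) := inferInstance
  obtain ⟨P, hP⟩ := exists_sylow_gen (F := F) h2 hns T
  have hC : Subgroup.centralizer ((P : Subgroup (GU n F)) : Set (GU n F)) ≤ P := by
    intro z hz
    rw [hP] at hz ⊢
    exact mem_SG_of_comm' h2 (fun b w hw => Subgroup.mem_centralizer_iff.1 hz _ (Rj_mem _ b hw)) _
  refine ⟨P, ⟨?_, ?_, ?_, ?_, ?_⟩, (Subgroup.center_le_centralizer _).trans hC⟩
  · rw [hP]
    rintro g ⟨σ, hσ, hm, he⟩
    refine ⟨σ, hσ, fun a b hab => ?_, fun b => ?_⟩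
    · rw [tauG_apply, hm a b hab, map_zero]
    · obtain ⟨w, hw, hwe⟩ := he b
      exact ⟨tauU w, tauU_mem hw, by rw [tauG_apply, ← hwe]; rfl⟩
  · refine ⟨sc uI, ?_, ?_⟩
    · rw [hP, ← Cfsg.Agent.H158.PronAvg.D_const]
      exact D_mem _ fun _ => uI_mem
    · refine MulEquiv.ext fun g => Subtype.ext ?_
      ext1 a b
      rw [MulAut.mul_apply, tauG_apply, tauG_apply, tau_tau, MulAut.conj_apply, ← map_inv, mul_sc_apply,
        sc_mul_apply, Cfsg.Agent.H158.PronQ.coe_inv, coe_uI]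
  · intro y hy h
    rw [hP] at hy h ⊢
    obtain ⟨σ, hσ, hm, hu⟩ := norm_mono h2 T ⟨uI, uI_mem, uI_sq⟩ hy
    have hm' : Mono (tauG n F y).1 σ := fun a b hab => by rw [tauG_apply, hm a b hab, map_zero]
    have hi : Mono (y⁻¹).1 σ⁻¹ := by
      have := hm.star
      rwa [← coe_inv_GU] at this
    obtain ⟨ρ, -, hρ, he⟩ := h
    have h3 : Mono (y⁻¹ * tauG n F y).1 (σ⁻¹ * σ) := hi.mul hm'
    have h4 := hρ.unique h3
    rw [inv_mul_cancel] at h4
    subst h4
    refine ⟨σ, hσ, hm, fun b => ?_⟩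
    obtain ⟨u, hue⟩ := hm.entry b
    refine ⟨u, mem_of_tau h2 hns (mem_N8_of (hu b u hue)) ?_, hue⟩
    obtain ⟨w, hw, hwe⟩ := he b
    have h5 : (y⁻¹ * tauG n F y).1 = (y⁻¹).1 * (tauG n F y).1 := rfl
    rw [Perm.one_apply, h5, hm'.mul_apply, coe_inv_GU, Matrix.conjTranspose_apply, tauG_apply, ← hue,
      ← Cfsg.Agent.H158.PronQ.coe_inv] at hwe
    have h6 : w = u⁻¹ * tauU u := Subtype.ext hwe
    rw [← h6]
    exact hw
  · refine ⟨Dom h2 (fun _ => 1), ?_, ?_⟩
    · rw [hP]
      exact Dom_mem_normalizer h2 fun _ _ _ => rfl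
    · rw [hP]
      rintro ⟨σ, -, hm, he⟩
      have h3 : σ = 1 := hm.unique (D_mono _)
      subst h3
      obtain ⟨b⟩ := ‹Nonempty n›
      obtain ⟨w, hw, hwe⟩ := he b
      rw [Perm.one_apply, Dom_apply, if_pos rfl, zpow_one] at hwe
      apply om_notMem h2
      rw [← Subtype.ext hwe]
      exact hw
  · exact fun y hy ho => eq_one_of_odd_of_mem P.isPGroup' (hC hy) ho

/-- `2` a square: the Sylow 2-subgroups are self-normalizing -/
theorem self_GU [Finite F] (h2 : (2 : F) ≠ 0) (hs : IsSquare (2 : F)) :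
    ∃ P : Sylow 2 (GU n F), Subgroup.normalizer ((P : Subgroup (GU n F)) : Set (GU n F)) ≤ P := by
  have := Fintype.ofFinite F
  have := fact2
  obtain ⟨T⟩ : Nonempty (Sylow 2 (Perm n)) := inferInstance
  have hz : IsPGroup 2 (Subgroup.zpowers (uI : U F)) :=
    isPGroup_zpowers (k := 2) (Q8_pow uI_mem)
  obtain ⟨W, hW⟩ := hz.exists_le_sylow
  have hself : ∀ u : U F, (∀ w ∈ (W : Subgroup (U F)), u * w * u⁻¹ ∈ (W : Subgroup (U F))) →
      u ∈ (W : Subgroup (U F)) := by
    obtain ⟨e⟩ := exists_equivSL (F := F) h2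
    have hodd : Odd (Fintype.card F) := by
      refine Nat.odd_iff.2 (FiniteField.odd_card_of_char_ne_two fun h => h2 ?_)
      have h0 := ringChar.Nat.cast_ringChar (R := F)
      rw [h] at h0
      exact_mod_cast h0
    have h8 : Fintype.card F % 8 = 1 ∨ Fintype.card F % 8 = 7 := by
      have h3 := FiniteField.isSquare_two_iff.1 hs
      obtain ⟨l, hl⟩ := hodd
      omega
    intro u hu
    have h3 := (Cfsg.Agent.S2431.result hodd (W.mapSurjective (f := e.toMonoidHom) e.surjective)).2.1 h8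
    have h4 : e u ∈ Subgroup.normalizer ((W.mapSurjective (f := e.toMonoidHom) e.surjective :
        Subgroup (Matrix.SpecialLinearGroup (Fin 2) F)) : Set _) := by
      apply Subgroup.mem_normalizer_fintype
      rintro _ ⟨w, hw, rfl⟩
      refine ⟨u * w * u⁻¹, hu w hw, ?_⟩
      rw [map_mul, map_mul, map_inv]
      rfl
    rw [h3] at h4
    obtain ⟨w, hw, hwe⟩ := h4
    have h5 : w = u := e.injective hwe
    rw [← h5]; exact hw
  have hnorm := SG_self h2 T ⟨uI, hW (Subgroup.mem_zpowers _), uI_sq⟩ hself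
  obtain ⟨S, hS⟩ := exists_sylow_eq (SG (W : Subgroup (U F)) (T : Subgroup (Perm n)))
    (SG_isPGroup W.isPGroup' T.isPGroup') (by
      intro m hm _
      apply hnorm
      exact Subgroup.mem_normalizer_fintype hm)
  refine ⟨S, ?_⟩
  rw [hS]
  exact hnorm

end Cfsg.Agent.GAL.Nrm
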